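import Groth.Agent.H27Perf.Ring
import Groth.Agent.H11Ample.Basic
import Groth.Prelude.Def_Coh
import Mathlib

/-!
# Frobenius split schemes: `Hⁱ(L) → Hⁱ(L^p)` is split injective
-/

set_option autoImplicit false
set_option backward.isDefEq.respectTransparency false
set_option linter.style.haveILetI false

noncomputable section

universe u

open CategoryTheory CategoryTheory.Limits AlgebraicGeometry Opposite TopologicalSpace
open Groth.Agent.H11Tilde Groth.Agent.H11Ample

namespace Groth.Agent.H27Split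

variable {p : ℕ} [Fact p.Prime] {X : Scheme.{u}} {L : X.Modules}

theorem spow_add (hp0 : ∀ V : X.Opens, (p : Γ(X, V)) = 0) (hL : PicF.IsInvertible L)
    {U : X.Opens} (x y : Γ(L, U)) : spow (x + y) p = spow x p + spow y p := by
  refine eq_of_locally _ _ fun t ht => ?_
  obtain ⟨V, e, htV, he⟩ := exists_gen hL t
  refine ⟨U ⊓ V, inf_le_left, ⟨ht, htV⟩, ?_⟩
  obtain ⟨a, ha⟩ := (he.bijective (inf_le_right : U ⊓ V ≤ V)).2
    (L.presheaf.map (homOfLE (inf_le_left : U ⊓ V ≤ U)).op x)
  obtain ⟨b, hb⟩ := (he.bijective (inf_le_right : U ⊓ V ≤ V)).2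
    (L.presheaf.map (homOfLE (inf_le_left : U ⊓ V ≤ U)).op y)
  have ha' : a • L.presheaf.map (homOfLE inf_le_right).op e = _ := ha
  have hb' : b • L.presheaf.map (homOfLE inf_le_right).op e = _ := hb
  rw [map_add, spow_res, spow_res, spow_res, map_add, ← ha', ← hb', ← add_smul, spow_smul,
    spow_smul, spow_smul, ← add_smul, ← pow_one p,
    H27Perf.add_pow' (p := p) (hp0 _), pow_one]

/-- The `p`-th power map `L → L^p`. -/
def powMap (hp0 : ∀ V : X.Opens, (p : Γ(X, V)) = 0) (hL : PicF.IsInvertible L) :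
    Coh.toAb L ⟶ Coh.toAb (CohB1.tensorPow L p) :=
  ⟨{ app := fun U => AddCommGrpCat.ofHom (AddMonoidHom.mk'
      (fun x : Γ(L, U.unop) => (spow x p : Γ(CohB1.tensorPow L p, U.unop)))
      fun x y => spow_add hp0 hL x y)
     naturality := fun U V f => by
      ext x
      change spow (L.presheaf.map f x) p = (CohB1.tensorPow L p).presheaf.map f (spow x p)
      rw [show f = (homOfLE f.unop.le).op from Subsingleton.elim _ _]
      exact (spow_res f.unop.le x p).symm }⟩

theorem powMap_app (hp0 : ∀ V : X.Opens, (p : Γ(X, V)) = 0) (hL : PicF.IsInvertible L)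
    (U : X.Opens) (x : Γ(L, U)) : (powMap hp0 hL).hom.app (op U) x = spow x p := rfl

theorem exists_retraction (hp0 : ∀ V : X.Opens, (p : Γ(X, V)) = 0) (hL : PicF.IsInvertible L)
    (sf : ∀ V : X.Opens, Γ(X, V) →+ Γ(X, V))
    (hnat : ∀ (U V : X.Opens) (h : V ≤ U) (a : Γ(X, U)),
      X.presheaf.map (homOfLE h).op (sf U a) = sf V (X.presheaf.map (homOfLE h).op a))
    (hlin : ∀ (U : X.Opens) (a b : Γ(X, U)), sf U (a ^ p * b) = a * sf U b)
    (hone : ∀ (U : X.Opens) (a : Γ(X, U)), sf U (a ^ p) = a) :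
    ∃ σ : Coh.toAb (CohB1.tensorPow L p) ⟶ Coh.toAb L, powMap hp0 hL ≫ σ = 𝟙 _ := by
  let ι := {V : X.Opens // ∃ e : Γ(L, V), IsGen L e}
  let B : ι → Opens X := Subtype.val
  have hB : Opens.IsBasis (Set.range B) := by
    rw [Opens.isBasis_iff_nbhd]
    intro U x hx
    obtain ⟨V, e, hxV, he⟩ := exists_gen hL x
    exact ⟨U ⊓ V, ⟨⟨U ⊓ V, _, he.res inf_le_right⟩, rfl⟩, ⟨hx, hxV⟩, inf_le_left⟩
  choose e he using fun i : ι => i.2
  have hb : ∀ i : ι, Function.Bijective fun r : Γ(X, i.1) => r • spow (e i) p := fun i => by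
    have := ((isGen_spow (he i) p).bijective le_rfl)
    rwa [H10Coh.mres_self] at this
  choose co hco using fun (i : ι) (z : Γ(CohB1.tensorPow L p, i.1)) => (hb i).2 z
  have hco' : ∀ i z, co i z • spow (e i) p = z := hco
  have hco1 : ∀ i a, co i (a • spow (e i) p) = a := fun i a => (hb i).1 (hco' i _)
  have hadd : ∀ i z z', co i (z + z') = co i z + co i z' := fun i z z' => (hb i).1 <| by
    beta_reduce
    rw [add_smul, hco', hco', hco']
  let σB : (inducedFunctor B).op ⋙ (Coh.toAb (CohB1.tensorPow L p)).obj ⟶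
      (inducedFunctor B).op ⋙ (Coh.toAb L).obj :=
    { app := fun i => AddCommGrpCat.ofHom (AddMonoidHom.mk'
        (fun z : Γ(CohB1.tensorPow L p, i.unop.1) =>
          (sf _ (co i.unop z) • e i.unop : Γ(L, i.unop.1)))
        fun z z' => by rw [hadd, map_add, add_smul])
      naturality := fun i j f => by
        have hle : j.unop.1 ≤ i.unop.1 := f.unop.hom.le
        ext z
        change sf _ (co j.unop ((CohB1.tensorPow L p).presheaf.map (homOfLE hle).op z)) • e j.unop =
          L.presheaf.map (homOfLE hle).op (sf _ (co i.unop z) • e i.unop)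
        obtain ⟨c, hc⟩ := ((he j.unop).bijective le_rfl).2
          (L.presheaf.map (homOfLE hle).op (e i.unop))
        have hc' : c • e j.unop = L.presheaf.map (homOfLE hle).op (e i.unop) := by
          rw [← hc]; beta_reduce; rw [H10Coh.mres_self]
        conv_lhs => rw [← hco' i.unop z, Scheme.Modules.map_smul, spow_res, ← hc', spow_smul,
          smul_smul, hco1, mul_comm, hlin, ← hnat, mul_comm, mul_smul, hc']
        rw [Scheme.Modules.map_smul] }
  refine ⟨⟨TopCat.Sheaf.restrictHomEquivHom _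
    (⟨(Coh.toAb L).obj, (Coh.toAb L).property⟩ : TopCat.Sheaf AddCommGrpCat.{u} X) hB σB⟩, ?_⟩
  refine CategoryTheory.Sheaf.hom_ext (TopCat.Sheaf.hom_ext _
    (⟨(Coh.toAb L).obj, (Coh.toAb L).property⟩ : TopCat.Sheaf AddCommGrpCat.{u} X) hB fun i => ?_)
  ext x
  change (TopCat.Sheaf.restrictHomEquivHom _ _ hB σB).app (op (B i))
    ((powMap hp0 hL).hom.app (op (B i)) x) = x
  rw [TopCat.Sheaf.extend_hom_app]
  change sf _ (co i (spow (x : Γ(L, i.1)) p)) • e i = x
  obtain ⟨b, hb'⟩ := ((he i).bijective le_rfl).2 (x : Γ(L, i.1))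
  have hb'' : b • e i = x := by rw [← hb']; beta_reduce; rw [H10Coh.mres_self]
  rw [← hb'', spow_smul, hco1, hone, hb'']

end Groth.Agent.H27Split

namespace Groth.Agent.H27Split

variable {p : ℕ} [Fact p.Prime] {X : Scheme.{u}}

/-- In a Frobenius split scheme with `p = 0`, a retraction of the `p`-th power map of `L`. -/
theorem exists_retraction_of_split (hp0 : ∀ V : X.Opens, (p : Γ(X, V)) = 0)
    (φ s : Coh.toAb (Coh.structureModule X) ⟶ Coh.toAb (Coh.structureModule X))
    (hφ : ∀ (U : X.Opens) (t : Γ(X, U)), φ.hom.app (op U) t = t ^ p)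
    (hs : φ ≫ s = 𝟙 _)
    (hlin : ∀ (U : X.Opens) (a b : Γ(X, U)),
      s.hom.app (op U) (a ^ p * b) = a * @id Γ(X, U) (s.hom.app (op U) b))
    {L : X.Modules} (hL : PicF.IsInvertible L) :
    ∃ σ : Coh.toAb (CohB1.tensorPow L p) ⟶ Coh.toAb L, powMap hp0 hL ≫ σ = 𝟙 _ :=
  exists_retraction hp0 hL (fun V => (s.hom.app (op V)).hom)
    (fun U V h a => (congrArg (fun g => g.hom a) (s.hom.naturality (homOfLE h).op)).symm)
    hlin fun U a => by
      have := congrArg (fun g : Coh.toAb (Coh.structureModule X) ⟶ _ => g.hom.app (op U) a) hs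
      exact (congrArg (s.hom.app (op U)).hom (hφ U a)).symm.trans this

theorem powMap_smulAb (hp0 : ∀ V : X.Opens, (p : Γ(X, V)) = 0) {L : X.Modules}
    (hL : PicF.IsInvertible L) (r : Coh.Γtop X) :
    Coh.smulAb L r ≫ powMap hp0 hL =
      powMap hp0 hL ≫ Coh.smulAb (CohB1.tensorPow L p) (r ^ p) := by
  refine CategoryTheory.Sheaf.hom_ext ?_
  ext U x
  let a : Γ(X, U.unop) := Coh.resTop X U r
  let a' : Γ(X, U.unop) := Coh.resTop X U (r ^ p)
  let y : Γ(L, U.unop) := x
  let z : Γ(CohB1.tensorPow L p, U.unop) := spow y p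
  change spow (a • y) p = a' • z
  rw [spow_smul]
  congr 1
  exact (map_pow (Coh.resTop X U) r p).symm

end Groth.Agent.H27Split
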